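import Cfsg.Agent.H807.EB.MData
import Cfsg.Agent.H684.EB.EvenS
import Cfsg.Agent.H104.EB.COne
import Cfsg.Agent.KFacts.MonsterE
import Cfsg.Agent.CpAut.TwoTool

/-!
# S4522, row `M`
-/

set_option autoImplicit false

open Subgroup

namespace Cfsg.Agent.H807.EB

open Cfsg Cfsg.Agent.H610.EB Cfsg.Agent.H684.EB

universe u

/-- the criterion (N8) (T06, `evenS_of_n8`) -/
def N8 : Prop := ∀ (S : Type u) [Group S] [Fintype S] (y : S), Odd (orderOf y) → IsConj y y⁻¹ →
  ∀ Q : Sylow 2 (Subgroup.centralizer ({y} : Set S)), Nat.card Q = 8 → ¬ IsMulCommutative Q →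
  ∀ z : S, orderOf z = 2 → (∀ q ∈ Q, Commute z (q : S)) → Commute z y →
  (∀ M : Ideal AlgInt, IsPModular 2 M → ∀ x : S, (∃ j : ℕ, orderOf x = 2 ^ j) → z ∈ Subgroup.zpowers x →
    OneBlock M (Subgroup.centralizer ({x} : Set S))) → EvenS S

/-- the inputs of (N8) -/
theorem NData.evenS (n8 : N8.{u}) {S : Type u} [Group S] [Finite S] {y z : S} (h : NData S y z) : EvenS S := by
  have : Fact (Nat.Prime 2) := ⟨Nat.prime_two⟩
  have := Fintype.ofFinite S
  obtain ⟨T, hTy, hT8, hTz, a, ha, b, hb, hab⟩ := h.T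
  obtain ⟨m, hm, hcard⟩ := h.card
  obtain ⟨E, hE2, hEn, hEs⟩ := h.E
  have hT' : IsPGroup 2 ↥(T.subgroupOf (centralizer {y})) :=
    IsPGroup.of_card (n := 3) (by rw [Nat.card_congr (subgroupOfEquivOfLe hTy).toEquiv, hT8]; norm_num)
  have hidx : ¬ 2 ∣ (T.subgroupOf (centralizer {y})).index := by
    have h1 := (T.subgroupOf (centralizer {y})).card_mul_index
    rw [Nat.card_congr (subgroupOfEquivOfLe hTy).toEquiv, hT8, hcard] at h1
    have h2 : (T.subgroupOf (centralizer {y})).index = m := by omega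
    rw [h2, ← even_iff_two_dvd, Nat.not_even_iff_odd]
    exact hm
  refine n8 S y ?_ h.real (hT'.toSylow hidx) ?_ ?_ z h.z2 ?_ h.zy ?_
  · refine Odd.of_dvd_nat (show Odd 21 by decide) (orderOf_dvd_of_pow_eq_one h.y21)
  · rw [← hT8]
    exact Nat.card_congr (subgroupOfEquivOfLe hTy).toEquiv
  · intro hc
    apply hab
    have h1 := hc.is_comm.comm (⟨⟨a, hTy ha⟩, ha⟩ : ↥(hT'.toSylow hidx)) ⟨⟨b, hTy hb⟩, hb⟩
    exact congrArg (fun q : ↥(hT'.toSylow hidx) => ((q : centralizer {y}) : S)) h1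
  · intro q hq
    exact hTz q hq
  · intro M hM x hx hzx
    have hxz : centralizer ({x} : Set S) ≤ centralizer ({z} : Set S) := by
      intro g hg
      obtain ⟨i, rfl⟩ := hzx
      rw [mem_centralizer_singleton_iff]
      exact ((show Commute g x from mem_centralizer_singleton_iff.1 hg).zpow_right i).eq
    obtain ⟨F, hFn, hF2, hFs⟩ := exists_constr (C := centralizer ({z} : Set S)) (E := E) hE2
      (fun c hc => hEn c (mem_centralizer_singleton_iff.1 hc))
      (fun c hc => hEs c (mem_centralizer_singleton_iff.1 hc)) hx hxz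
    exact H104.EB.COne.oneBlock_of_constrained hM F hF2 hFs

theorem inner_m {S : Type*} [Group S] (h : Spor.IsoM S) (α : S ≃* S) : ∃ s : S, ∀ x : S, α x = s * x * s⁻¹ := by
  obtain ⟨e⟩ := h
  obtain ⟨f⟩ := Cfsg.Agent.MonsterP.Equiv.equiv
  obtain ⟨g, hg⟩ := Cfsg.Agent.CpAut.TwoInner.inner_congr (e.trans f) (Cfsg.Agent.KFacts.MonsterE.inner_model
    Cfsg.Agent.MonsterX.Instance.mGroup Cfsg.Agent.MonsterX.Instance.mRep Cfsg.Agent.MonsterX.Instance.mLat
    Cfsg.Agent.MonsterX.InstanceFinal.mOrbit Cfsg.Agent.MonsterX.Instance.mTrans) α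
  exact ⟨g, fun x => by rw [hg]; rfl⟩

/-- **Row `M`.** -/
theorem evenB_m (n8 : N8.{u}) {S : Type u} [Group S] (h : Spor.IsoM S) : EvenB S := by
  have hfin : Finite S := by
    obtain ⟨e⟩ := h
    obtain ⟨f⟩ := Cfsg.Agent.MonsterP.Equiv.equiv
    have := Cfsg.Agent.MFive.Row.finite_model
    exact Finite.of_equiv _ (e.trans f).symm.toEquiv
  obtain ⟨y, z, hd⟩ := ndata h
  exact evenB_of_evenS_of_inner (hd.evenS n8) (inner_m h)

theorem evenJ_m (n8 : N8.{u}) {S : Type u} [Group S] (h : Spor.IsoM S) : EvenJ S :=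
  evenJ_of_inner (fun α => ⟨0, by simpa using inner_m h α⟩) (evenB_m n8 h)

end Cfsg.Agent.H807.EB
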