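import Cfsg.Agent.H149.Sp.Th
import Cfsg.Agent.H807.EB.Nine

/-!
# S4522, row `M`: a real element of order 21 of `Co1` with centralizer of odd order and 4 fixed points on `Λ/2Λ`
-/

set_option autoImplicit false

open Subgroup

namespace Cfsg.Agent.H807.EB

open Cfsg Cfsg.Agent.H149.Sp Cfsg.Agent.H573.Spor Cfsg.Agent.H393.Iso
open Cfsg.Agent.LThreeMB (fr XX Zx mk mk_mul mk_eq_one exists_mk ClassOf)
open Cfsg.Agent.MonsterU.Lam2
open Cfsg.Spor (Co1)

/-- commuting elements `s`, `t` of orders 3 and 7 -/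
structure ST (s t : Co1) : Prop where
  hs : orderOf s = 3
  fs : fr s = 2 ^ 8
  nine : Nonempty (XX s ≃* ↥(alternatingGroup (Fin 9)))
  ht : orderOf t = 7
  st : t * s = s * t
  ft : fr t = 2 ^ 6

theorem exists_st : ∃ s t : Co1, ST s t := by
  obtain ⟨s, hs, hfs, ⟨e⟩, -⟩ := Cfsg.Agent.LThreeMB.CoOneFin.coOne.nine
  have hf7 : Fact (Nat.Prime 7) := ⟨by norm_num⟩
  have hcard : Nat.card (centralizer ({s} : Set Co1)) = 181440 * 3 := by
    rw [card_XX, Nat.card_congr e.toEquiv, hs, nat_card_alternatingGroup]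
    rw [Nat.card_eq_fintype_card, Fintype.card_fin]
    rfl
  have hfc : Finite (centralizer ({s} : Set Co1)) := Nat.finite_of_card_ne_zero (by rw [hcard]; norm_num)
  obtain ⟨t, ht⟩ := exists_prime_orderOf_dvd_card' (G := centralizer ({s} : Set Co1)) 7 (by rw [hcard]; norm_num)
  have ht' : orderOf (t : Co1) = 7 := by rw [orderOf_coe, ht]
  have hst : (t : Co1) * s = s * t := mem_cent.1 t.2
  exact ⟨s, t, hs, hfs, ⟨e⟩, ht', hst, fr_of_comm hfs ht' hst⟩

namespace ST

variable {s t : Co1} (h : ST s t)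
include h

theorem comm : Commute s t := h.st.symm

theorem s3 : s ^ 3 = 1 := by rw [← h.hs, pow_orderOf_eq_one]

theorem t7 : t ^ 7 = 1 := by rw [← h.ht, pow_orderOf_eq_one]

theorem s_eq : (s * t) ^ 7 = s := by
  rw [h.comm.mul_pow, h.t7, mul_one, show 7 = 3 * 2 + 1 by norm_num, pow_add, pow_mul, h.s3, one_pow, one_mul, pow_one]

theorem t_eq : (s * t) ^ 15 = t := by
  rw [h.comm.mul_pow, show s ^ 15 = 1 by rw [show 15 = 3 * 5 by norm_num, pow_mul, h.s3, one_pow], one_mul,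
    show 15 = 7 * 2 + 1 by norm_num, pow_add, pow_mul, h.t7, one_pow, one_mul, pow_one]

theorem comm_s {g : Co1} (hg : g * (s * t) = (s * t) * g) : g * s = s * g := by
  have h1 : Commute g ((s * t) ^ 7) := (show Commute g (s * t) from hg).pow_right 7
  rw [h.s_eq] at h1
  exact h1

theorem comm_t {g : Co1} (hg : g * (s * t) = (s * t) * g) : g * t = t * g := by
  have h1 : Commute g ((s * t) ^ 15) := (show Commute g (s * t) from hg).pow_right 15
  rw [h.t_eq] at h1
  exact h1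

/-- the homomorphism `C(s) → A₉` -/
theorem exists_hom : ∃ f : centralizer ({s} : Set Co1) →* ↥(alternatingGroup (Fin 9)), Function.Surjective f ∧
    ∀ g, f g = 1 → ∃ i : ℤ, s ^ i = (g : Co1) := by
  obtain ⟨e⟩ := h.nine
  refine ⟨e.toMonoidHom.comp (QuotientGroup.mk' (Zx s)), e.surjective.comp (QuotientGroup.mk'_surjective _),
    fun g hg => ?_⟩
  have h1 : QuotientGroup.mk' (Zx s) g = 1 := (map_eq_one_iff e e.injective).1 hg
  have h2 : g ∈ Zx s := (QuotientGroup.eq_one_iff g).1 h1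
  obtain ⟨i, hi⟩ := mem_zpowers_iff.1 h2
  exact ⟨i, congrArg Subtype.val hi⟩

omit h in
/-- the order of the image of an element of prime order different from 3 -/
theorem order_img (h : ST s t) {f : centralizer ({s} : Set Co1) →* ↥(alternatingGroup (Fin 9))}
    (hf : ∀ g, f g = 1 → ∃ i : ℤ, s ^ i = (g : Co1)) {p : ℕ} (hp : p.Prime) (hp3 : p ≠ 3)
    {g : centralizer ({s} : Set Co1)} (hg : orderOf g = p) : orderOf (f g) = p := by
  have : Fact p.Prime := ⟨hp⟩
  refine orderOf_eq_prime (by rw [← map_pow, ← hg, pow_orderOf_eq_one, map_one]) fun h1 => ?_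
  obtain ⟨i, hi⟩ := hf g h1
  have h2 : (g : Co1) ^ 3 = 1 := by
    rw [← hi, ← zpow_natCast, ← zpow_mul, mul_comm, zpow_mul, zpow_natCast, h.s3, one_zpow]
  have h3 := orderOf_dvd_of_pow_eq_one h2
  rw [orderOf_coe, hg] at h3
  exact hp3 ((Nat.prime_dvd_prime_iff_eq hp Nat.prime_three).1 h3)

/-- **the centralizer of `s t` has odd order** -/
theorem odd_cent [Finite Co1] : Odd (Nat.card (centralizer ({s * t} : Set Co1))) := by
  rw [← Nat.not_even_iff_odd, even_iff_two_dvd]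
  intro h2
  have hf2 : Fact (Nat.Prime 2) := ⟨Nat.prime_two⟩
  obtain ⟨g, hg⟩ := exists_prime_orderOf_dvd_card' (G := centralizer ({s * t} : Set Co1)) 2 h2
  have hgst : (g : Co1) * (s * t) = (s * t) * g := mem_cent.1 g.2
  obtain ⟨f, -, hf⟩ := h.exists_hom
  let g' : centralizer ({s} : Set Co1) := ⟨g, mem_cent.2 (h.comm_s hgst)⟩
  let t' : centralizer ({s} : Set Co1) := ⟨t, mem_cent.2 h.st⟩
  have h1 : orderOf (f t') = 7 := h.order_img hf (by norm_num) (by norm_num) (by rw [← h.ht, ← orderOf_coe])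
  have h2 : orderOf (f g') = 2 := h.order_img hf (by norm_num) (by norm_num) (by
    rw [← orderOf_coe]; exact (orderOf_coe g).trans hg)
  refine Nine.not_comm h1 h2 ?_
  rw [← map_mul, ← map_mul]
  exact congrArg f (Subtype.ext (h.comm_t hgst).symm)

omit h in
theorem fr_inv (s : Co1) : fr s⁻¹ = fr s := by
  apply Nat.card_congr
  refine Equiv.subtypeEquivRight fun v => ?_
  rw [inv_smul_eq_iff]
  exact eq_comm

/-- **`s t` is real** -/
theorem real : ∃ k : Co1, k * (s * t) * k⁻¹ = (s * t)⁻¹ := by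
  obtain ⟨k, hk⟩ := Cfsg.Agent.LThreeMB.CoOneFin.coOne.eight s s⁻¹ h.hs (by rw [orderOf_inv, h.hs]) h.fs
    ((fr_inv s).trans h.fs)
  obtain ⟨f, hfs, hf⟩ := h.exists_hom
  have h1 : (k * t * k⁻¹) * s = s * (k * t * k⁻¹) := by
    have h2 : k * s⁻¹ * k⁻¹ = s := by
      rw [← inv_inj, mul_inv_rev, mul_inv_rev, inv_inv, inv_inv, ← mul_assoc, hk]
    calc k * t * k⁻¹ * s = k * t * k⁻¹ * (k * s⁻¹ * k⁻¹) := by rw [h2]
      _ = k * (t * s⁻¹) * k⁻¹ := by group
      _ = k * (s⁻¹ * t) * k⁻¹ := by rw [(h.comm.inv_left).eq]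
      _ = (k * s⁻¹ * k⁻¹) * (k * t * k⁻¹) := by group
      _ = s * (k * t * k⁻¹) := by rw [h2]
  let t' : centralizer ({s} : Set Co1) := ⟨k * t * k⁻¹, mem_cent.2 h1⟩
  let u' : centralizer ({s} : Set Co1) := ⟨t⁻¹, mem_cent.2 (h.comm.inv_right).symm.eq⟩
  have h7 : Nat.Prime 7 := by norm_num
  have ht' : orderOf (f t') = 7 := h.order_img hf h7 (by norm_num) (by
    rw [← orderOf_coe, ← h.ht]
    exact orderOf_injective (MulAut.conj k).toMonoidHom (MulAut.conj k).injective t)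
  have hu' : orderOf (f u') = 7 := h.order_img hf h7 (by norm_num) (by
    rw [← orderOf_coe, ← h.ht]
    exact orderOf_inv t)
  obtain ⟨c, hc⟩ := isConj_iff.1 (Nine.conj_seven ht' hu')
  obtain ⟨c, rfl⟩ := hfs c
  have h2 : f (u'⁻¹ * (c * t' * c⁻¹)) = 1 := by
    rw [map_mul, map_mul, map_mul, map_inv, map_inv, hc, inv_mul_cancel]
  obtain ⟨i, hi⟩ := hf _ h2
  have hi' : s ^ i = t * ((c : Co1) * (k * t * k⁻¹) * (c : Co1)⁻¹) := by
    rw [hi]
    show (t⁻¹)⁻¹ * ((c : Co1) * (k * t * k⁻¹) * (c : Co1)⁻¹) = _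
    rw [inv_inv]
  -- `(c k) t (c k)⁻¹ = t⁻¹ s ^ i` has order 7
  have h3 : (c : Co1) * (k * t * k⁻¹) * (c : Co1)⁻¹ = t⁻¹ * s ^ i := by rw [hi', inv_mul_cancel_left]
  have h4 : ((c : Co1) * (k * t * k⁻¹) * (c : Co1)⁻¹) ^ 7 = 1 := by
    rw [conj_pow, conj_pow, h.t7]
    group
  rw [h3, ((h.comm.symm.inv_left).zpow_right i).mul_pow, inv_pow, h.t7, inv_one, one_mul] at h4
  have h5 : s ^ i = 1 := by
    have h6 : (s ^ i) ^ 3 = 1 := by
      rw [← zpow_natCast, ← zpow_mul, mul_comm, zpow_mul, zpow_natCast, h.s3, one_zpow]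
    calc s ^ i = (s ^ i) ^ 7 * (((s ^ i) ^ 3) ^ 2)⁻¹ := by group
      _ = 1 := by rw [h4, h6]; group
  rw [h5, mul_one] at h3
  have hcs : (c : Co1) * s⁻¹ * (c : Co1)⁻¹ = s⁻¹ := by
    have h6 : (c : Co1) * s = s * c := mem_cent.1 c.2
    rw [((show Commute (c : Co1) s from h6).inv_right).eq, mul_inv_cancel_right]
  refine ⟨c * k, ?_⟩
  calc (c : Co1) * k * (s * t) * ((c : Co1) * k)⁻¹ =
      ((c : Co1) * (k * s * k⁻¹) * (c : Co1)⁻¹) * ((c : Co1) * (k * t * k⁻¹) * (c : Co1)⁻¹) := by group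
    _ = s⁻¹ * t⁻¹ := by rw [hk, hcs, h3]
    _ = (s * t)⁻¹ := by rw [h.comm.eq, mul_inv_rev]

end ST

/-- the number of fixed points of commuting elements -/
noncomputable def fr2 (s t : Co1) : ℕ := Nat.card {v : L2 // s • v = v ∧ t • v = v}

/-- counting modulo the order -/
theorem fr_mod {s t : Co1} {p : ℕ} (hp : p.Prime) (ht : orderOf t = p) (hst : Commute s t) (h0 : fr s ≠ 0) :
    fr s ≡ fr2 s t [MOD p] := by
  have hf : Fact p.Prime := ⟨hp⟩
  have key : ∀ g ∈ zpowers t, ∀ v : L2, s • v = v → s • g • v = g • v := by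
    intro g hg v hv
    obtain ⟨n, rfl⟩ := mem_zpowers_iff.1 hg
    have h1 : Commute s (t ^ n) := (Commute.zpow_right hst n)
    rw [← mul_smul, h1.eq, mul_smul, hv]
  let act : MulAction (zpowers t) {v : L2 // s • v = v} :=
    { smul := fun g v => ⟨(g : Co1) • (v : L2), key g g.2 v v.2⟩
      one_smul := fun v => Subtype.ext (one_smul Co1 (v : L2))
      mul_smul := fun g h v => Subtype.ext (mul_smul (g : Co1) (h : Co1) (v : L2)) }
  have hZ : IsPGroup p (zpowers t) := by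
    rw [IsPGroup.iff_card]
    exact ⟨1, by rw [Nat.card_zpowers, ht, pow_one]⟩
  have hfin : Finite {v : L2 // s • v = v} := Nat.finite_of_card_ne_zero h0
  have hmod := hZ.card_modEq_card_fixedPoints {v : L2 // s • v = v}
  have h1 : Nat.card (MulAction.fixedPoints (zpowers t) {v : L2 // s • v = v}) = fr2 s t := by
    refine Nat.card_congr
      { toFun := fun v => ⟨(v.1.1 : L2), v.1.2, congrArg Subtype.val (v.2 ⟨t, mem_zpowers t⟩)⟩
        invFun := fun v => ⟨⟨v.1, v.2.1⟩, ?_⟩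
        left_inv := fun v => rfl
        right_inv := fun v => rfl }
    rintro ⟨_, i, rfl⟩
    refine Subtype.ext ?_
    show (t ^ i) • (v : L2) = v
    have h2 : t ∈ MulAction.stabilizer Co1 (v : L2) := v.2.2
    exact (zpow_mem h2 i : t ^ i ∈ MulAction.stabilizer Co1 (v : L2))
  rw [h1] at hmod
  exact hmod

theorem fr2_comm (s t : Co1) : fr2 s t = fr2 t s :=
  Nat.card_congr (Equiv.subtypeEquivRight fun _ => and_comm)

/-- `fr2 s t` is a power of 2 -/
theorem fr2_pow (s t : Co1) : ∃ k ≤ 24, fr2 s t = 2 ^ k := by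
  let W : AddSubgroup L2 :=
    { carrier := {v | s • v = v ∧ t • v = v}
      add_mem' := fun {a b} ha hb => by
        show s • (a + b) = a + b ∧ t • (a + b) = a + b
        rw [smul_add, smul_add, ha.1, ha.2, hb.1, hb.2]
        exact ⟨rfl, rfl⟩
      zero_mem' := ⟨smul_zero s, smul_zero t⟩
      neg_mem' := fun {a} ha => by
        show s • (-a) = -a ∧ t • (-a) = -a
        rw [smul_neg, smul_neg, ha.1, ha.2]
        exact ⟨rfl, rfl⟩ }
  have h1 : Nat.card W ∣ 2 ^ 24 := by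
    rw [← Cfsg.Agent.MonsterU.Lam2.card_L2]
    exact AddSubgroup.card_addSubgroup_dvd_card W
  obtain ⟨k, hk, h2⟩ := (Nat.dvd_prime_pow Nat.prime_two).1 h1
  exact ⟨k, hk, h2⟩

namespace ST

variable {s t : Co1} (h : ST s t)
include h

theorem fr2_eq : fr2 s t = 4 := by
  have h7 := fr_mod (p := 7) (by norm_num) h.ht h.comm (by rw [h.fs]; norm_num)
  have h3 := fr_mod (p := 3) (by norm_num) h.hs h.comm.symm (by rw [h.ft]; norm_num)
  rw [h.fs] at h7
  rw [h.ft, fr2_comm] at h3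
  obtain ⟨k, -, hk⟩ := fr2_pow s t
  have hle : fr2 s t ≤ 2 ^ 6 := by
    rw [← h.ft]
    have hfin : Finite {v : L2 // t • v = v} := Nat.finite_of_card_ne_zero (by
      show fr t ≠ 0
      rw [h.ft]; norm_num)
    exact Nat.card_le_card_of_injective (fun v : {v : L2 // s • v = v ∧ t • v = v} =>
      (⟨v.1, v.2.2⟩ : {v : L2 // t • v = v})) fun a b hab => Subtype.ext (congrArg (fun w : {v : L2 // t • v = v} => (w : L2)) hab)
  rw [hk] at h7 h3 hle ⊢
  have hk6 : k ≤ 6 := (Nat.pow_le_pow_iff_right (by norm_num)).1 hle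
  interval_cases k <;> first | rfl | (exact absurd h7 (by decide)) | (exact absurd h3 (by decide))

theorem fr_eq : fr (s * t) = 4 := by
  rw [← h.fr2_eq]
  refine Nat.card_congr (Equiv.subtypeEquivRight fun v => ?_)
  constructor
  · intro hv
    have h1 : s * t ∈ MulAction.stabilizer Co1 v := hv
    have h2 : (s * t) ^ 7 ∈ MulAction.stabilizer Co1 v := pow_mem h1 7
    have h3 : (s * t) ^ 15 ∈ MulAction.stabilizer Co1 v := pow_mem h1 15
    rw [h.s_eq] at h2
    rw [h.t_eq] at h3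
    exact ⟨h2, h3⟩
  · rintro ⟨h1, h2⟩
    rw [mul_smul, h2, h1]

theorem pow21 : (s * t) ^ 21 = 1 := by
  rw [h.comm.mul_pow, show 21 = 3 * 7 by norm_num, pow_mul s, h.s3, one_pow, one_mul, mul_comm 3 7, pow_mul, h.t7,
    one_pow]

end ST

end Cfsg.Agent.H807.EB
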