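import Cfsg.Agent.H807.EB.Co
import Cfsg.Agent.H807.EB.Cha
import Cfsg.Agent.H807.EB.Her

/-!
# S4522, row `M`: the data for (N8)
-/

set_option autoImplicit false
set_option maxRecDepth 100000

open Subgroup

namespace Cfsg.Agent.H807.EB

open Cfsg.Agent.LThreeMB (PP mem_PP fr KChart.pi KChart.chart)
open Cfsg.Agent.MonsterX Cfsg.Agent.MonsterX.Model
open Cfsg.Agent.MonsterU
open Cfsg.Agent.MonsterU.Ch
open Cfsg.Agent.MonsterU.Lam2
open Cfsg.Spor (Co1)

/-- the data for (N8) -/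
structure NData (K : Type*) [Group K] (y z : K) : Prop where
  y21 : y ^ 21 = 1
  real : IsConj y y⁻¹
  z2 : orderOf z = 2
  zy : z * y = y * z
  T : ∃ T : Subgroup K, T ≤ centralizer {y} ∧ Nat.card T = 8 ∧ (∀ q ∈ T, z * q = q * z) ∧
    ∃ a ∈ T, ∃ b ∈ T, a * b ≠ b * a
  card : ∃ m : ℕ, Odd m ∧ Nat.card (centralizer ({y} : Set K)) = 8 * m
  E : ∃ E : Subgroup K, IsPGroup 2 E ∧ (∀ c, c * z = z * c → ∀ e ∈ E, c * e * c⁻¹ ∈ E) ∧
    ∀ c, c * z = z * c → (∀ e ∈ E, c * e = e * c) → c ∈ E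

theorem NData.congr {K L : Type*} [Group K] [Group L] (f : K ≃* L) {y z : K} (h : NData K y z) :
    NData L (f y) (f z) where
  y21 := by rw [← map_pow, h.y21, map_one]
  real := by
    obtain ⟨c, hc⟩ := isConj_iff.1 h.real
    exact isConj_iff.2 ⟨f c, by rw [← map_mul, ← map_inv, ← map_mul, hc, map_inv]⟩
  z2 := by rw [MulEquiv.orderOf_eq, h.z2]
  zy := by rw [← map_mul, h.zy, map_mul]
  T := by
    obtain ⟨T, h1, h2, h3, a, ha, b, hb, hab⟩ := h.T
    refine ⟨T.map f.toMonoidHom, ?_, ?_, ?_, f a, ⟨a, ha, rfl⟩, f b, ⟨b, hb, rfl⟩, fun h4 => hab (f.injective ?_)⟩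
    · rintro _ ⟨q, hq, rfl⟩
      have h5 := mem_centralizer_singleton_iff.1 (h1 hq)
      exact mem_centralizer_singleton_iff.2 (by
        show f q * f y = f y * f q
        rw [← map_mul, h5, map_mul])
    · rw [card_map_of_injective (f := f.toMonoidHom) f.injective, h2]
    · rintro _ ⟨q, hq, rfl⟩
      show f z * f q = f q * f z
      rw [← map_mul, h3 q hq, map_mul]
    · rw [map_mul, map_mul, h4]
  card := by
    obtain ⟨m, hm, h1⟩ := h.card
    refine ⟨m, hm, ?_⟩
    rw [← h1]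
    have h2 : centralizer ({f y} : Set L) = (centralizer ({y} : Set K)).map f.toMonoidHom := by
      ext x
      rw [mem_map, mem_centralizer_singleton_iff]
      constructor
      · intro hx
        refine ⟨f.symm x, mem_centralizer_singleton_iff.2 (f.injective ?_), f.apply_symm_apply x⟩
        rw [map_mul, map_mul, f.apply_symm_apply, hx]
      · rintro ⟨c, hc, rfl⟩
        have h3 := mem_centralizer_singleton_iff.1 hc
        show f c * f y = f y * f c
        rw [← map_mul, h3, map_mul]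
    rw [h2, card_map_of_injective (f := f.toMonoidHom) f.injective]
  E := by
    obtain ⟨E, h1, h2, h3⟩ := h.E
    have hz : ∀ c : L, c * f z = f z * c → f.symm c * z = z * f.symm c := fun c hc => by
      apply f.injective
      rw [map_mul, map_mul, f.apply_symm_apply, hc]
    refine ⟨E.map f.toMonoidHom, h1.map _, ?_, ?_⟩
    · rintro c hc _ ⟨e, he, rfl⟩
      refine ⟨f.symm c * e * (f.symm c)⁻¹, h2 _ (hz c hc) e he, ?_⟩
      show f (f.symm c * e * (f.symm c)⁻¹) = c * f e * c⁻¹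
      rw [map_mul, map_mul, map_inv, f.apply_symm_apply]
    · intro c hc hce
      refine ⟨f.symm c, h3 _ (hz c hc) fun e he => ?_, f.apply_symm_apply c⟩
      apply f.injective
      rw [map_mul, map_mul, f.apply_symm_apply]
      exact hce _ ⟨e, he, rfl⟩

/-- the data from a chart -/
theorem ndata_of_chart {G : Type*} [Group G] [Finite G] {Q : Subgroup G} {z : G} {eta : G → L2}
    {pi : Subgroup.centralizer ({z} : Set G) →* Co1} [Finite Co1] (hch : Chart Q z eta pi) {s t : Co1} (h : ST s t) :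
    ∃ y : G, NData G y z := by
  obtain ⟨c, hc⟩ := hch.pi_surj (s * t)
  have h84 : c ^ 84 = 1 := by
    have h1 : pi (c ^ 21) = 1 := by rw [map_pow, hc, h.pow21]
    have h2 : ((c ^ 21 : Subgroup.centralizer ({z} : Set G)) : G) ^ 4 = 1 :=
      Cfsg.Agent.MFive.pow_four hch ((hch.pi_eq_one _).1 h1)
    apply Subtype.ext
    rw [show 84 = 21 * 4 by norm_num, pow_mul]
    exact h2
  obtain ⟨y, hy⟩ : ∃ y, y = c ^ 64 := ⟨_, rfl⟩
  have hpi : pi y = s * t := by
    rw [hy, map_pow, hc, show 64 = 21 * 3 + 1 by norm_num, pow_add, pow_mul, h.pow21, one_pow, one_mul, pow_one]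
  have hy21 : y ^ 21 = 1 := by
    rw [hy, ← pow_mul, show 64 * 21 = 84 * 16 by norm_num, pow_mul, h84, one_pow]
  have ho : Odd 21 := by decide
  have hyz : (y : G) * z = z * y := mem_centralizer_singleton_iff.1 y.2
  have hcard : Nat.card ↥(PP Q (y : G)) = 8 := by rw [card_PP hch ho hy21, hpi, h.fr_eq]
  have hPQ : PP Q (y : G) ≤ Q := inf_le_left
  refine ⟨y, ?_, ?_, ?_, hyz.symm, ⟨PP Q (y : G), inf_le_right, hcard, ?_, ?_⟩, ?_, ⟨Q, ?_, ?_, ?_⟩⟩
  · exact Cfsg.Agent.MFive.coe_pow hy21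
  · obtain ⟨k, hk⟩ := h.real
    obtain ⟨d, hd⟩ := hch.pi_surj k
    obtain ⟨q, -, hq⟩ := conj_21 hch (x := d * y * d⁻¹) (y := y⁻¹) (by rw [conj_pow, hy21, mul_one, mul_inv_cancel])
      (by rw [inv_pow, hy21, inv_one]) (by rw [map_mul, map_mul, map_inv, map_inv, hd, hpi, hk])
    refine isConj_iff.2 ⟨q * d, ?_⟩
    rw [← InvMemClass.coe_inv, ← hq]
    simp only [Subgroup.coe_mul, InvMemClass.coe_inv, mul_inv_rev, mul_assoc]
  · exact orderOf_eq_prime (by rw [pow_two, hch.large.z_sq]) hch.large.z_ne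
  · intro q hq
    exact (hch.large.comm_z q (hPQ hq)).symm
  · by_contra hcon
    push Not at hcon
    have h1 : ∀ p : ↥(PP Q (y : G)), (p : G) = 1 ∨ (p : G) = z := fun p =>
      cent_PP hch ho hy21 (hPQ p.2) (mem_PP.1 p.2).2 fun w hw hwy => hcon p p.2 w (mem_PP.2 ⟨hw, hwy⟩)
    classical
    have h2 : Nat.card ↥(PP Q (y : G)) ≤ Nat.card (Fin 2) := by
      refine Nat.card_le_card_of_injective (fun p => if (p : G) = 1 then (0 : Fin 2) else 1) ?_
      intro p r hpr
      rcases h1 p with hp | hp <;> rcases h1 r with hr | hr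
      · exact Subtype.ext (hp.trans hr.symm)
      · simp [hp, hr, hch.large.z_ne] at hpr
      · simp [hp, hr, hch.large.z_ne] at hpr
      · exact Subtype.ext (hp.trans hr.symm)
    rw [hcard, Nat.card_eq_fintype_card, Fintype.card_fin] at h2
    omega
  · refine ⟨(PP Q (y : G)).relIndex (centralizer {(y : G)}), odd_relIndex hch ho hy21 (by rw [hpi]; exact h.odd_cent), ?_⟩
    have h1 := relIndex_mul_relIndex ⊥ (PP Q (y : G)) (centralizer {(y : G)}) bot_le inf_le_right
    rw [relIndex_bot_left, relIndex_bot_left, hcard] at h1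
    exact h1.symm
  · exact IsPGroup.of_card hch.card_Q
  · exact fun c hc e he => hch.large.conj_mem c hc e he
  · exact fun c hc h1 => hch.large.self c hc h1

/-- **the data for the Monster** -/
theorem ndata_model : ∃ y z : ↥InstData.M.G, NData ↥InstData.M.G y z := by
  have := Cfsg.Agent.MFive.Row.finite_model
  have := Cfsg.Agent.LThreeMB.CoOneAll.finCo1
  obtain ⟨s, t, h⟩ := exists_st
  obtain ⟨y, hy⟩ := ndata_of_chart (KChart.chart KDone.lft Cfsg.Agent.MFive.Row.hc) h
  exact ⟨y, _, hy⟩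

/-- **the data for the Monster** -/
theorem ndata {K : Type*} [Group K] (h : Cfsg.Spor.IsoM K) : ∃ y z : K, NData K y z := by
  obtain ⟨e⟩ := h
  obtain ⟨f⟩ := MonsterP.Equiv.equiv
  obtain ⟨y, z, hy⟩ := ndata_model
  exact ⟨_, _, hy.congr (e.trans f).symm⟩

end Cfsg.Agent.H807.EB
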